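import Groth.Agent.NormFLF.Basic
import Mathlib.RingTheory.Localization.Free
import Mathlib.RingTheory.Localization.BaseChange
import Mathlib.Algebra.Category.Ring.Under.Basic

/-! Base change of the norm of a finite locally free morphism; free localisations. -/

set_option autoImplicit false
set_option linter.style.haveILetI false

universe u

open CategoryTheory Limits AlgebraicGeometry TopologicalSpace Opposite

noncomputable section

namespace Groth.Agent.NormMap87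

open Groth.Agent.GrpdLib Groth.Agent.NormFLF

variable {X₁ X₂ Y₁ Y₂ : Scheme.{u}} {g' : X₁ ⟶ X₂} {π₁ : X₁ ⟶ Y₁} {π₂ : X₂ ⟶ Y₂} {g : Y₁ ⟶ Y₂}
  (h : IsPullback g' π₁ π₂ g)
  [IsFinite π₁] [Flat π₁] [LocallyOfFinitePresentation π₁]
  [IsFinite π₂] [Flat π₂] [LocallyOfFinitePresentation π₂]

theorem appTop_res {X Y : Scheme.{u}} (g : X ⟶ Y) {W₂ : Y.Opens} {W : X.Opens} (hle : W ≤ g ⁻¹ᵁ W₂)
    (i : W ⟶ (⊤ : X.Opens)) (i₂ : W₂ ⟶ (⊤ : Y.Opens)) (t : Γ(Y, ⊤)) :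
    X.presheaf.map i.op (g.appTop t) = g.appLE W₂ W hle (Y.presheaf.map i₂.op t) := by
  change (g.app ⊤ ≫ X.presheaf.map i.op) t = (Y.presheaf.map i₂.op ≫ g.app W₂ ≫ X.presheaf.map (homOfLE hle).op) t
  rw [g.naturality_assoc]
  erw [← X.presheaf.map_comp]
  rfl

include h in
theorem nW_baseChange {W₂ : Y₂.Opens} {W₁ : Y₁.Opens} (hW₂ : IsAffineOpen W₂) (hW₁ : IsAffineOpen W₁)
    (e : W₁ ≤ g ⁻¹ᵁ W₂) (e' : π₁ ⁻¹ᵁ W₁ ≤ g' ⁻¹ᵁ (π₂ ⁻¹ᵁ W₂)) (s : Γ(X₂, π₂ ⁻¹ᵁ W₂)) :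
    g.appLE W₂ W₁ e (nW π₂ hW₂ s) = nW π₁ hW₁ (g'.appLE (π₂ ⁻¹ᵁ W₂) (π₁ ⁻¹ᵁ W₁) e' s) := by
  have hV : π₁ ⁻¹ᵁ W₁ = g' ⁻¹ᵁ (π₂ ⁻¹ᵁ W₂) ⊓ π₁ ⁻¹ᵁ W₁ := (inf_eq_right.2 e').symm
  have hpush : IsPushout (π₂.appLE W₂ (π₂ ⁻¹ᵁ W₂) le_rfl) (g.appLE W₂ W₁ e)
      (g'.appLE (π₂ ⁻¹ᵁ W₂) (π₁ ⁻¹ᵁ W₁) e') (π₁.appLE W₁ (π₁ ⁻¹ᵁ W₁) le_rfl) :=
    (isIso_pushoutSection_iff h e le_rfl hV).mp
      (isIso_pushoutSection_of_isAffineOpen h e le_rfl hV hW₂ hW₁ (hW₂.preimage π₂))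
  obtain ⟨P', -, hN, -⟩ := exists_pres_baseChange hpush.flip (nonempty_pres π₂ hW₂).some
  exact (((Pres.norm_eq (nonempty_pres π₁ hW₁).some P' _).trans (hN s))).symm

include h in
theorem appTop_norm (s : Γ(X₂, ⊤)) :
    g.appTop (norm π₂ ⊤ s) = norm π₁ ⊤ (g'.appTop s) := by
  refine TopCat.Sheaf.eq_of_locally_eq' Y₁.sheaf
    (fun W : { W : Y₁.Opens // IsAffineOpen W ∧ ∃ W₂ : Y₂.Opens, IsAffineOpen W₂ ∧ W ≤ g ⁻¹ᵁ W₂ } => W.1) ⊤
    (fun W => homOfLE le_top) (fun y _ => ?_) _ _ fun W => ?_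
  · obtain ⟨W₂, hW₂, hy, -⟩ := exists_isAffineOpen_mem_and_subset (x := g y) (U := ⊤) trivial
    obtain ⟨W, hW, hyW, hle⟩ := exists_isAffineOpen_mem_and_subset (x := y) (U := g ⁻¹ᵁ W₂) hy
    exact Opens.mem_iSup.2 ⟨⟨W, hW, W₂, hW₂, hle⟩, hyW⟩
  · obtain ⟨W, hW, W₂, hW₂, hle⟩ := W
    have e' : π₁ ⁻¹ᵁ W ≤ g' ⁻¹ᵁ (π₂ ⁻¹ᵁ W₂) := by
      rw [← Scheme.Hom.comp_preimage, h.w, Scheme.Hom.comp_preimage]
      exact π₁.preimage_mono hle
    change Y₁.presheaf.map _ _ = Y₁.presheaf.map _ _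
    rw [norm_spec π₁ (U := ⊤) (g'.appTop s) W hW (homOfLE le_top)]
    have e1 : Y₁.presheaf.map (homOfLE (le_top : W ≤ ⊤)).op (g.appTop (norm π₂ ⊤ s)) =
        g.appLE W₂ W hle (Y₂.presheaf.map (homOfLE (le_top : W₂ ≤ ⊤)).op (norm π₂ ⊤ s)) :=
      appTop_res g hle _ _ _
    rw [e1, norm_spec π₂ (U := ⊤) s W₂ hW₂ (homOfLE le_top), nW_baseChange h hW₂ hW hle e']
    exact congrArg (nW π₁ hW) (appTop_res g' e' _ _ s).symm

theorem norm_eq_algebraNorm {A B : Type u} [CommRing A] [CommRing B] [Algebra A B] [Module.Finite A B]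
    [Module.Free A B] {σ : A →+* B} (hσ : σ = algebraMap A B) (P : Pres σ) (x : B) :
    P.norm x = Algebra.norm A x := by
  subst hσ
  rcases subsingleton_or_nontrivial A with hA | hA
  · exact Subsingleton.elim _ _
  · exact (Pres.norm_eq P (Pres.ofBasis (Module.finBasis A B)) x).trans (Pres.norm_ofBasis _ _)

theorem norm_top_of_free {X Y : Scheme.{u}} (π : X ⟶ Y) [IsFinite π] [Flat π] [LocallyOfFinitePresentation π]
    [IsAffine Y] [Algebra Γ(Y, ⊤) Γ(X, ⊤)] [Module.Finite Γ(Y, ⊤) Γ(X, ⊤)] [Module.Free Γ(Y, ⊤) Γ(X, ⊤)]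
    (hcompat : ∀ a, algebraMap Γ(Y, ⊤) Γ(X, ⊤) a = π.appTop a) (s : Γ(X, ⊤)) :
    norm π ⊤ s = Algebra.norm Γ(Y, ⊤) s := by
  have hσ : (π.appLE ⊤ (π ⁻¹ᵁ ⊤) le_rfl).hom = algebraMap Γ(Y, ⊤) Γ(X, ⊤) := by
    ext a
    rw [Scheme.Hom.appLE_eq_app]
    exact (hcompat a).symm
  have key := norm_spec π (U := ⊤) s ⊤ (isAffineOpen_top Y) (𝟙 _)
  rw [op_id, CategoryTheory.Functor.map_id, CategoryTheory.Functor.map_id] at key
  refine key.trans (Eq.trans ?_ (norm_eq_algebraNorm (B := Γ(X, ⊤)) hσ (nonempty_pres π (isAffineOpen_top Y)).some s))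
  exact congrArg (nW π (isAffineOpen_top Y)) (by rw [op_id, CategoryTheory.Functor.map_id]; rfl)

theorem free_of_isPushout {A A' B B' : CommRingCat.{u}} {φ : A ⟶ A'} {σ : A ⟶ B} {σ' : A' ⟶ B'} {ψ : B ⟶ B'}
    (hp : IsPushout φ σ σ' ψ) (r : A) (e : Localization.Away r ≃+* A')
    (he : ∀ a, e (algebraMap A (Localization.Away r) a) = φ a) :
    letI := σ.hom.toAlgebra; letI := σ'.hom.toAlgebra
    Module.Free (Localization.Away r) (LocalizedModule.Away r B) → Module.Free A' B' := by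
  letI : Algebra A B := σ.hom.toAlgebra
  letI : Algebra A' B' := σ'.hom.toAlgebra
  intro hfree
  letI : Algebra A A' := φ.hom.toAlgebra
  letI : Algebra A B' := (φ ≫ σ').hom.toAlgebra
  letI : Algebra B B' := ψ.hom.toAlgebra
  haveI : IsScalarTower A A' B' := IsScalarTower.of_algebraMap_eq fun _ => rfl
  haveI : IsScalarTower A B B' := IsScalarTower.of_algebraMap_eq fun a =>
    (congrArg (fun k : A ⟶ B' => k a) hp.w : _)
  haveI : IsLocalization.Away r A' :=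
    IsLocalization.isLocalization_of_algEquiv (Submonoid.powers r)
      (AlgEquiv.ofRingEquiv (f := e) (fun a => (he a).trans rfl))
  have hP : Algebra.IsPushout A A' B B' := (CommRingCat.isPushout_iff_isPushout).mp hp
  let f : B →ₗ[A] B' := (IsScalarTower.toAlgHom A B B').toLinearMap
  haveI : IsLocalizedModule (Submonoid.powers r) f :=
    (isLocalizedModule_iff_isBaseChange (Submonoid.powers r) A' f).2 hP.out
  letI : Module (Localization.Away r) B' := Module.compHom B' e.toRingHom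
  haveI : IsScalarTower A (Localization.Away r) B' := ⟨fun a x b => by
    have h1 : e (a • x) = a • e x := by
      rw [Algebra.smul_def, map_mul, he, Algebra.smul_def]
      rfl
    exact (congrArg (fun y : A' => y • b) h1).trans (smul_assoc a (e x) b)⟩
  haveI : Module.Free (Localization.Away r) B' :=
    Module.Free.of_equiv ((IsLocalizedModule.iso (Submonoid.powers r) f).extendScalarsOfIsLocalization
      (Submonoid.powers r) (Localization.Away r))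
  haveI : RingHomInvPair e.toRingHom e.symm.toRingHom := RingHomInvPair.of_ringEquiv e
  haveI : RingHomInvPair e.symm.toRingHom e.toRingHom := RingHomInvPair.of_ringEquiv e.symm
  exact Module.Free.of_equiv (R := Localization.Away r) (M := B') (R' := A') (M' := B') (σ := e.toRingHom)
    (σ' := e.symm.toRingHom)
    { AddEquiv.refl B' with map_smul' := fun x b => rfl }

end Groth.Agent.NormMap87
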