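import Groth.Agent.NormMap87.Basic
import Groth.Agent.RedPts.Basic
import Groth.Prelude.Def_CGrpSh3
import Mathlib.AlgebraicGeometry.Morphisms.Finite

/-! The norm map `f_* 𝔾_m ⟶ 𝔾_m` of a finite locally free morphism: existence and uniqueness. -/

set_option autoImplicit false
set_option linter.style.haveILetI false

universe u

open CategoryTheory Limits AlgebraicGeometry TopologicalSpace Opposite MonObj MonoidalCategory CartesianMonoidalCategory

noncomputable section

namespace Groth.Agent.NormMap87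

open Groth.Agent.GrpdLib Groth.Agent.NormFLF Groth.Agent.RedPts

variable {X X' : Scheme.{u}} (f : X' ⟶ X)

/-- The base change of `f` to `T`. -/
abbrev proj (T : Over X) : ((Over.pullback f).obj T).left ⟶ T.left := pullback.fst T.hom f

theorem isPullback_map {T₁ T₂ : Over X} (g : T₁ ⟶ T₂) :
    IsPullback ((Over.pullback f).map g).left (proj f T₁) (proj f T₂) g.left := by
  refine IsPullback.of_right ?_ ?_ (IsPullback.of_hasPullback T₂.hom f).flip
  · rw [Over.w g]
    have e : ((Over.pullback f).map g).left ≫ pullback.snd T₂.hom f = pullback.snd T₁.hom f :=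
      pullback.lift_snd _ _ _
    rw [e]
    exact (IsPullback.of_hasPullback T₁.hom f).flip
  · exact pullback.lift_fst _ _ _

variable [IsFinite f] [Flat f] [LocallyOfFinitePresentation f]

instance (T : Over X) : IsFinite (proj f T) := inferInstanceAs (IsFinite (pullback.fst T.hom f))
instance (T : Over X) : Flat (proj f T) := inferInstanceAs (Flat (pullback.fst T.hom f))
instance (T : Over X) : LocallyOfFinitePresentation (proj f T) := inferInstanceAs (LocallyOfFinitePresentation (pullback.fst T.hom f))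

/-- The function of the norm of a point. -/
abbrev nFn (T : Over X) (t' : (Over.pullback f).obj T ⟶ Red.Gm X') : Γ(T.left, ⊤) :=
  norm (proj f T) ⊤ (Red.gmFn t')

/-- The norm of a point. -/
def npt (T : Over X) (t' : (Over.pullback f).obj T ⟶ Red.Gm X') : T ⟶ Red.Gm X :=
  (gm_surjective (X := T) ((gm_isUnit t').map (norm (proj f T) ⊤))).choose

theorem gmFn_npt (T : Over X) (t' : (Over.pullback f).obj T ⟶ Red.Gm X') : Red.gmFn (npt f T t') = nFn f T t' :=
  (gm_surjective (X := T) ((gm_isUnit t').map (norm (proj f T) ⊤))).choose_spec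

theorem nFn_comp {T₁ T₂ : Over X} (g : T₁ ⟶ T₂) (t' : (Over.pullback f).obj T₂ ⟶ Red.Gm X') :
    g.left.appTop (nFn f T₂ t') = nFn f T₁ ((Over.pullback f).map g ≫ t') := by
  rw [appTop_norm (isPullback_map f g)]
  exact congrArg (norm (proj f T₁) ⊤) (gm_comp _ _).symm

theorem npt_comp {T₁ T₂ : Over X} (g : T₁ ⟶ T₂) (t' : (Over.pullback f).obj T₂ ⟶ Red.Gm X') :
    npt f T₁ ((Over.pullback f).map g ≫ t') = g ≫ npt f T₂ t' :=
  gm_injective (by rw [gm_comp, gmFn_npt, gmFn_npt, nFn_comp])

theorem npt_mul (T : Over X) (x y : (Over.pullback f).obj T ⟶ Red.Gm X') :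
    npt f T (x * y) = npt f T x * npt f T y :=
  gm_injective (by rw [gm_mul, gmFn_npt, gmFn_npt, gmFn_npt, nFn, gm_mul]; exact map_mul (norm (proj f T) ⊤) _ _)

theorem gmFn_one {S : Scheme.{u}} (Y : Over S) : Red.gmFn (1 : Y ⟶ Red.Gm S) = 1 := by
  refine (gm_isUnit (1 : Y ⟶ Red.Gm S)).mul_left_cancel ?_
  rw [← gm_mul]
  exact (congrArg Red.gmFn (_root_.mul_one (M := Y ⟶ Red.Gm S) 1)).trans (_root_.mul_one _).symm

theorem npt_one (T : Over X) : npt f T 1 = 1 :=
  gm_injective (by rw [gmFn_npt, nFn, gmFn_one, gmFn_one]; exact map_one (norm (proj f T) ⊤))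

variable (K : Precoverage Scheme.{u}) [(QuotSh.J K X).Subcanonical] [(QuotSh.J K X').Subcanonical]

/-- The norm map. -/
def normMap : CGrpSh3.pushGm K f ⟶ CGrpSh2.Gm K X :=
  ⟨{ app := fun T => AddCommGrpCat.ofHom
      { toFun := fun x => ULift.up (Additive.ofMul (npt f (unop T) x.down.toMul))
        map_zero' := ULift.ext _ _ (congrArg Additive.ofMul (npt_one f (unop T)))
        map_add' := fun x y => ULift.ext _ _ (congrArg Additive.ofMul (npt_mul f (unop T) x.down.toMul y.down.toMul)) }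
     naturality := fun T₁ T₂ g => AddCommGrpCat.ext fun x =>
       ULift.ext _ _ (congrArg Additive.ofMul (npt_comp f g.unop x.down.toMul)) }⟩

theorem isNormMap_normMap : CGrpSh3.IsNormMap K f (normMap f K) := fun T _ _ _ _ hcompat t' =>
  (gmFn_npt f T t').trans (norm_top_of_free (proj f T) hcompat _)

omit [IsFinite f] [Flat f] [LocallyOfFinitePresentation f] in
theorem normPt_comp (N : CGrpSh3.pushGm K f ⟶ CGrpSh2.Gm K X) {T₁ T₂ : Over X} (g : T₁ ⟶ T₂)
    (t' : (Over.pullback f).obj T₂ ⟶ Red.Gm X') :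
    CGrpSh3.normPt K f N T₁ ((Over.pullback f).map g ≫ t') = g ≫ CGrpSh3.normPt K f N T₂ t' :=
  congrArg Additive.toMul (congrArg ULift.down
    (ConcreteCategory.congr_hom (N.hom.naturality g.op) (ULift.up (Additive.ofMul t'))))

theorem res_eq_topIso {Y : Scheme.{u}} (W : Y.Opens) (t : Γ(Y, ⊤)) :
    Y.presheaf.map (homOfLE (le_top : W ≤ ⊤)).op t = W.topIso.hom (W.ι.appTop t) := by
  rw [← CommRingCat.comp_apply]
  refine congrArg (fun φ : Γ(Y, ⊤) ⟶ Γ(Y, W) => φ t) ?_
  simp only [Scheme.Opens.topIso_hom, Scheme.Opens.ι_appTop]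
  exact (congrArg Y.presheaf.map (Subsingleton.elim _ _)).trans (Y.presheaf.map_comp _ _)

theorem exists_free_basicOpen {T : Over X} [IsAffine T.left] (p : PrimeSpectrum Γ(T.left, ⊤)) :
    ∃ r : Γ(T.left, ⊤), r ∉ p.asIdeal ∧ ∀ (T₁ : Over X) (g : T₁ ⟶ T) [IsAffine T₁.left],
      (∃ e : Localization.Away r ≃+* Γ(T₁.left, ⊤), ∀ a, e (algebraMap _ _ a) = g.left.appTop a) →
      letI := (proj f T₁).appTop.hom.toAlgebra
      Module.Free Γ(T₁.left, ⊤) Γ(((Over.pullback f).obj T₁).left, ⊤) ∧
        Module.Finite Γ(T₁.left, ⊤) Γ(((Over.pullback f).obj T₁).left, ⊤) := by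
  letI := (proj f T).appTop.hom.toAlgebra
  haveI : Module.Finite Γ(T.left, ⊤) Γ(((Over.pullback f).obj T).left, ⊤) :=
    (proj f T).finite_app ⊤ (isAffineOpen_top _)
  haveI : Module.Flat Γ(T.left, ⊤) Γ(((Over.pullback f).obj T).left, ⊤) := by
    have := HasRingHomProperty.appLE @Flat (proj f T) inferInstance ⟨⊤, isAffineOpen_top _⟩
      ⟨_, (isAffineOpen_top T.left).preimage (proj f T)⟩ le_rfl
    rw [Scheme.Hom.appLE_eq_app] at this
    exact this
  haveI : Module.FinitePresentation Γ(T.left, ⊤) Γ(((Over.pullback f).obj T).left, ⊤) := by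
    have := (proj f T).finitePresentation_appLE (isAffineOpen_top _) ((isAffineOpen_top T.left).preimage (proj f T)) le_rfl
    rw [Scheme.Hom.appLE_eq_app] at this
    haveI : Algebra.FinitePresentation Γ(T.left, ⊤) Γ(((Over.pullback f).obj T).left, ⊤) := this
    exact Module.FinitePresentation.of_finite_of_finitePresentation _ _
  haveI : Module.Free (Localization.AtPrime p.asIdeal)
      (LocalizedModule p.asIdeal.primeCompl Γ(((Over.pullback f).obj T).left, ⊤)) := Module.free_of_flat_of_isLocalRing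
  obtain ⟨r, hr, hfree, -⟩ := Module.FinitePresentation.exists_free_localizedModule_powers p.asIdeal.primeCompl
    (LocalizedModule.mkLinearMap p.asIdeal.primeCompl Γ(((Over.pullback f).obj T).left, ⊤))
    (Localization.AtPrime p.asIdeal)
  refine ⟨r, hr, fun T₁ g _ ⟨e, he⟩ => ?_⟩
  haveI : IsAffine ((Over.pullback f).obj T).left := isAffine_of_isAffineHom (proj f T)
  have hp := isPushout_appTop_of_isPullback (isPullback_map f g).flip
  exact ⟨free_of_isPushout hp r e he hfree, (proj f T₁).finite_app ⊤ (isAffineOpen_top _)⟩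

theorem gmFn_normPt_of_isNormMap_affine {N : CGrpSh3.pushGm K f ⟶ CGrpSh2.Gm K X} (hN : CGrpSh3.IsNormMap K f N)
    (T : Over X) [IsAffine T.left] (t' : (Over.pullback f).obj T ⟶ Red.Gm X') :
    Red.gmFn (CGrpSh3.normPt K f N T t') = nFn f T t' := by
  refine TopCat.Sheaf.eq_of_locally_eq' T.left.sheaf
    (fun W : {r : Γ(T.left, ⊤) // ∀ (T₁ : Over X) (g : T₁ ⟶ T) [IsAffine T₁.left],
      (∃ e : Localization.Away r ≃+* Γ(T₁.left, ⊤), ∀ a, e (algebraMap _ _ a) = g.left.appTop a) →
      letI := (proj f T₁).appTop.hom.toAlgebra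
      Module.Free Γ(T₁.left, ⊤) Γ(((Over.pullback f).obj T₁).left, ⊤) ∧
        Module.Finite Γ(T₁.left, ⊤) Γ(((Over.pullback f).obj T₁).left, ⊤)} => T.left.basicOpen W.1) ⊤
    (fun W => homOfLE le_top) (fun y _ => ?_) _ _ fun W => ?_
  · obtain ⟨r, hr, hW⟩ := exists_free_basicOpen f (T := T) ((isAffineOpen_top T.left).primeIdealOf ⟨y, trivial⟩)
    refine Opens.mem_iSup.2 ⟨⟨r, hW⟩, ?_⟩
    have hy := (isAffineOpen_top T.left).fromSpec_primeIdealOf ⟨y, trivial⟩
    have hb := (isAffineOpen_top T.left).fromSpec_preimage_basicOpen r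
    have hm : (isAffineOpen_top T.left).primeIdealOf ⟨y, trivial⟩ ∈
        (isAffineOpen_top T.left).fromSpec ⁻¹ᵁ T.left.basicOpen r := by
      rw [hb]; exact hr
    have hm' : (isAffineOpen_top T.left).fromSpec ((isAffineOpen_top T.left).primeIdealOf ⟨y, trivial⟩) ∈
        T.left.basicOpen r := hm
    rw [hy] at hm'
    exact hm'
  · obtain ⟨r, hW⟩ := W
    let W : T.left.Opens := T.left.basicOpen r
    have hWa : IsAffineOpen W := (isAffineOpen_top T.left).basicOpen r
    haveI : IsAffine W.toScheme := hWa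
    let T₁ : Over X := Over.mk (W.ι ≫ T.hom)
    let g : T₁ ⟶ T := Over.homMk W.ι rfl
    haveI : IsAffine T₁.left := hWa
    haveI := (isAffineOpen_top T.left).isLocalization_basicOpen r
    let e₀ : Localization.Away r ≃+* Γ(T.left, W) :=
      (IsLocalization.algEquiv (Submonoid.powers r) (Localization.Away r) Γ(T.left, W)).toRingEquiv
    have he : ∀ a, (e₀.trans W.topIso.commRingCatIsoToRingEquiv.symm) (algebraMap _ _ a) = g.left.appTop a := by
      intro a
      show W.topIso.inv (IsLocalization.algEquiv (Submonoid.powers r) (Localization.Away r) Γ(T.left, W)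
        (algebraMap _ _ a)) = _
      rw [AlgEquiv.commutes]
      show W.topIso.inv (T.left.presheaf.map (homOfLE (T.left.basicOpen_le r)).op a) = W.ι.appTop a
      rw [res_eq_topIso W a, ← CommRingCat.comp_apply, Iso.hom_inv_id]
      rfl
    obtain ⟨hfr, hfi⟩ := hW T₁ g ⟨_, he⟩
    letI := (proj f T₁).appTop.hom.toAlgebra
    have key := hN T₁ (fun a => rfl) ((Over.pullback f).map g ≫ t')
    rw [normPt_comp, gm_comp, ← norm_top_of_free (proj f T₁) (fun a => rfl)] at key
    have key2 : g.left.appTop (Red.gmFn (CGrpSh3.normPt K f N T t')) = g.left.appTop (nFn f T t') :=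
      key.trans (nFn_comp f g t').symm
    exact (res_eq_topIso W _).trans ((congrArg W.topIso.hom key2).trans (res_eq_topIso W _).symm)

theorem normPt_eq_npt {N : CGrpSh3.pushGm K f ⟶ CGrpSh2.Gm K X} (hN : CGrpSh3.IsNormMap K f N)
    (T : Over X) (t' : (Over.pullback f).obj T ⟶ Red.Gm X') :
    CGrpSh3.normPt K f N T t' = npt f T t' := by
  apply gm_injective
  rw [gmFn_npt]
  refine TopCat.Sheaf.eq_of_locally_eq' T.left.sheaf
    (fun W : {W : T.left.Opens // IsAffineOpen W} => W.1) ⊤
    (fun W => homOfLE le_top) (fun y _ => ?_) _ _ fun W => ?_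
  · obtain ⟨W, hW, hyW, -⟩ := exists_isAffineOpen_mem_and_subset (x := y) (U := ⊤) trivial
    exact Opens.mem_iSup.2 ⟨⟨W, hW⟩, hyW⟩
  · obtain ⟨W, hW⟩ := W
    let T₁ : Over X := Over.mk (W.ι ≫ T.hom)
    let g : T₁ ⟶ T := Over.homMk W.ι rfl
    haveI : IsAffine T₁.left := hW
    have key := gmFn_normPt_of_isNormMap_affine f K hN T₁ ((Over.pullback f).map g ≫ t')
    rw [normPt_comp, gm_comp, ← nFn_comp] at key
    exact (res_eq_topIso W _).trans ((congrArg W.topIso.hom key).trans (res_eq_topIso W _).symm)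

theorem normMap_unique {N N' : CGrpSh3.pushGm K f ⟶ CGrpSh2.Gm K X} (hN : CGrpSh3.IsNormMap K f N)
    (hN' : CGrpSh3.IsNormMap K f N') : N = N' :=
  Sheaf.hom_ext (NatTrans.ext (funext fun ⟨T⟩ => AddCommGrpCat.ext fun x =>
    ULift.ext _ _ (congrArg Additive.ofMul
      ((normPt_eq_npt f K hN T x.down.toMul).trans (normPt_eq_npt f K hN' T x.down.toMul).symm))))

end Groth.Agent.NormMap87
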